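import Groth.Agent.Lib.Helper19.UCSp.Core
import Groth.Agent.Lib.Helper15.AlgSpTop

/-!
# Universal closedness of a quasi-compact morphism via affine spaces over an atlas (helper19)
-/

set_option autoImplicit false
set_option linter.style.haveILetI false
universe u
open CategoryTheory CategoryTheory.Limits AlgebraicGeometry MorphismProperty TopologicalSpace
open AlgSp Groth.Agent.Helper15 Groth.Agent.Helper16.AS TensorProduct

namespace Groth.Agent.Helper19.UCSp

variable {S : Scheme.{u}} {X Y : Sp S} {f : X ⟶ Y}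

/-- the structure map of the affine space over a scheme `V` over `S`, as a map over `S` -/
noncomputable def piA (n : ℕ) (V : Over S) :
    Over.mk ((𝔸(ULift.{u} (Fin n); V.left) ↘ V.left) ≫ V.hom) ⟶ V :=
  Over.homMk (𝔸(ULift.{u} (Fin n); V.left) ↘ V.left)

section step2

variable (R : Type u) [CommRing R] (σ : Spec (CommRingCat.of R) ⟶ S)
  (g₀ : (yon S).obj (Over.mk σ) ⟶ Y)

theorem cb_mvPolynomial (hX : IsAlgSpace X) (hY : IsAlgSpace Y) (ι : Type u) (n : ℕ)
    (e : ι ≃ ULift.{u} (Fin n))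
    (h : CB f ((yon S).map (piA n (Over.mk σ)) ≫ g₀)) :
    CB f ((yon S).map (hB R σ (MvPolynomial ι R)) ≫ g₀) := by
  let ρ : MvPolynomial (ULift.{u} (Fin n)) R ≃ₐ[R] MvPolynomial ι R :=
    MvPolynomial.renameEquiv R e.symm
  have hρ : IsIso (CommRingCat.ofHom (ρ : MvPolynomial (ULift.{u} (Fin n)) R →+* MvPolynomial ι R)) :=
    inferInstanceAs (IsIso ρ.toRingEquiv.toCommRingCatIso.hom)
  have hw : (Spec.map (CommRingCat.ofHom
      (ρ : MvPolynomial (ULift.{u} (Fin n)) R →+* MvPolynomial ι R)) ≫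
      (AffineSpace.SpecIso (ULift.{u} (Fin n)) (CommRingCat.of R)).inv) ≫
      (𝔸(ULift.{u} (Fin n); Spec (CommRingCat.of R)) ↘ Spec (CommRingCat.of R)) =
      Spec.map (CommRingCat.ofHom (algebraMap R (MvPolynomial ι R))) := by
    rw [Category.assoc, AffineSpace.SpecIso_inv_over, ← Spec.map_comp, ← CommRingCat.ofHom_comp]
    congr 2
    exact ρ.toAlgHom.comp_algebraMap
  let j : TB R σ (MvPolynomial ι R) ⟶
      Over.mk ((𝔸(ULift.{u} (Fin n); Spec (CommRingCat.of R)) ↘ Spec (CommRingCat.of R)) ≫ σ) :=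
    Over.homMk (Spec.map (CommRingCat.ofHom
      (ρ : MvPolynomial (ULift.{u} (Fin n)) R →+* MvPolynomial ι R)) ≫
      (AffineSpace.SpecIso (ULift.{u} (Fin n)) (CommRingCat.of R)).inv) (by
      exact (Category.assoc _ _ _).symm.trans (congrArg (· ≫ σ) hw))
  have hj : IsOpenImmersion j.left := by
    change IsOpenImmersion (Spec.map _ ≫ _)
    infer_instance
  have hjπ : j ≫ piA n (Over.mk σ) = hB R σ (MvPolynomial ι R) := by
    apply Over.OverMorphism.ext
    exact hw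
  have := cb_comp_of_isOpenImmersion j ((yon S).map (piA n (Over.mk σ)) ≫ g₀) hX hY hj h
  rwa [← Category.assoc, ← Functor.map_comp, hjπ] at this

end step2

section step3

variable {V : Over S} (p : (yon S).obj V ⟶ Y) {O : V.left.Opens} (hO : IsAffineOpen O)

/-- the inclusion of an affine open, over `S` -/
noncomputable def iV : Over.mk (hO.fromSpec ≫ V.hom) ⟶ V := Over.homMk hO.fromSpec rfl

theorem cb_piA_of_affineOpen (hX : IsAlgSpace X) (hY : IsAlgSpace Y) (n : ℕ)
    (h : CB f ((yon S).map (piA n V) ≫ p)) :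
    CB f ((yon S).map (piA n (Over.mk (hO.fromSpec ≫ V.hom))) ≫ (yon S).map (iV hO) ≫ p) := by
  let m : Over.mk ((𝔸(ULift.{u} (Fin n); Spec Γ(V.left, O)) ↘ Spec Γ(V.left, O)) ≫
      hO.fromSpec ≫ V.hom) ⟶ Over.mk ((𝔸(ULift.{u} (Fin n); V.left) ↘ V.left) ≫ V.hom) :=
    Over.homMk (AffineSpace.map (ULift.{u} (Fin n)) hO.fromSpec) (by
      change _ ≫ _ ≫ V.hom = _ ≫ _ ≫ V.hom
      rw [AffineSpace.map_over_assoc])
  have hm : IsOpenImmersion m.left :=
    MorphismProperty.of_isPullback (P := @IsOpenImmersion)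
      (AffineSpace.isPullback_map (n := ULift.{u} (Fin n)) hO.fromSpec).flip inferInstance
  have hmπ : piA n (Over.mk (hO.fromSpec ≫ V.hom)) ≫ iV hO = m ≫ piA n V := by
    apply Over.OverMorphism.ext
    exact (AffineSpace.map_over (n := ULift.{u} (Fin n)) hO.fromSpec).symm
  have := cb_comp_of_isOpenImmersion m ((yon S).map (piA n V) ≫ p) hX hY hm h
  have hE : (yon S).map (piA n (Over.mk (hO.fromSpec ≫ V.hom))) ≫ (yon S).map (iV hO) ≫ p =
      (yon S).map m ≫ (yon S).map (piA n V) ≫ p := by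
    rw [← Category.assoc, ← Functor.map_comp, hmπ, Functor.map_comp, Category.assoc]
  rw [hE]
  exact this

end step3

section step1

variable (R : Type u) [CommRing R] (σ : Spec (CommRingCat.of R) ⟶ S)
  (g₀ : (yon S).obj (Over.mk σ) ⟶ Y)

theorem cb_spec (hqc : IsQuasiCompactMor f) (B : Type u) [CommRing B] [Algebra R B]
    (hcb : ∀ s : Finset B, CB f ((yon S).map (hB R σ (MvPolynomial s R)) ≫ g₀)) :
    CB f ((yon S).map (hB R σ B) ≫ g₀) := by
  have hc : CompactSpace (Over.mk σ).left :=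
    inferInstanceAs (CompactSpace (Spec (CommRingCat.of R)))
  have hPqc : IsQuasiCompactSp (pullback f g₀) :=
    hqc (IsAlgSpace.yon_obj _) ((isQuasiCompactSp_yon_iff _).2 hc) g₀ _ _
      (IsPullback.of_hasPullback f g₀)
  obtain ⟨U, a₀, hUaff, hae, has⟩ := exists_affine_chart_of_isQuasiCompactSp hPqc
  haveI := hUaff
  obtain ⟨u₀, hu₀⟩ := (yon S).map_surjective (a₀ ≫ pullback.snd f g₀)
  let φ : CommRingCat.of R ⟶ Γ(U.left, ⊤) := Spec.preimage (U.left.isoSpec.inv ≫ u₀.left)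
  letI : Algebra R Γ(U.left, ⊤) := φ.hom.toAlgebra
  have hφ : Spec.map (CommRingCat.ofHom (algebraMap R Γ(U.left, ⊤))) =
      U.left.isoSpec.inv ≫ u₀.left := Spec.map_preimage _
  let ε : TB R σ Γ(U.left, ⊤) ⟶ U := Over.homMk U.left.isoSpec.inv (by
    have h1 : u₀.left ≫ σ = U.hom := Over.w u₀
    change _ ≫ U.hom = Spec.map _ ≫ σ
    rw [hφ, ← h1, Category.assoc])
  have hεu : ε ≫ u₀ = hB R σ Γ(U.left, ⊤) := by
    apply Over.OverMorphism.ext
    exact hφ.symm
  have hεe : RepWith @Etale ((yon S).map ε) :=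
    (repWith_yon_map_iff _ ε).2 (inferInstanceAs (Etale U.left.isoSpec.inv))
  have hεs : RepWith @Surjective ((yon S).map ε) :=
    (repWith_yon_map_iff _ ε).2 (inferInstanceAs (Surjective U.left.isoSpec.inv))
  refine cb_of_finset R σ Γ(U.left, ⊤) B g₀ ((yon S).map ε ≫ a₀) ?_
    ((RepWith @Etale).comp_mem _ _ hεe hae) ((RepWith @Surjective).comp_mem _ _ hεs has) hcb
  rw [Category.assoc, ← hu₀, ← Functor.map_comp, hεu]

end step1

section step4

theorem cb_of_piA (hX : IsAlgSpace X) (hY : IsAlgSpace Y) (hqc : IsQuasiCompactMor f)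
    {V : Over S} (p : (yon S).obj V ⟶ Y) (h : ∀ n : ℕ, CB f ((yon S).map (piA n V) ≫ p))
    {Z : Over S} (γ : Z ⟶ V) : CB f ((yon S).map γ ≫ p) := by
  classical
  apply cb_of_local
  intro t
  obtain ⟨_, ⟨O, hO, rfl⟩, htO, -⟩ :=
    (V.left.isBasis_affineOpens).exists_subset_of_mem_open (Set.mem_univ (γ.left t)) isOpen_univ
  let O' : V.left.Opens := O
  have hO' : IsAffineOpen O' := hO
  have htO' : t ∈ (γ.left ⁻¹ᵁ O' : Z.left.Opens) := htO
  obtain ⟨_, ⟨Q, hQ, rfl⟩, htQ, hQO⟩ :=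
    (Z.left.isBasis_affineOpens).exists_subset_of_mem_open htO' (γ.left ⁻¹ᵁ O').isOpen
  let Q' : Z.left.Opens := Q
  have hQ' : IsAffineOpen Q' := hQ
  have hle : Q' ≤ γ.left ⁻¹ᵁ O' := hQO
  let φ : Γ(V.left, O') ⟶ Γ(Z.left, Q') := γ.left.appLE O' Q' hle
  letI : Algebra Γ(V.left, O') Γ(Z.left, Q') := φ.hom.toAlgebra
  have hφ : Spec.map (CommRingCat.ofHom (algebraMap Γ(V.left, O') Γ(Z.left, Q'))) ≫ hO'.fromSpec =
      hQ'.fromSpec ≫ γ.left := IsAffineOpen.SpecMap_appLE_fromSpec γ.left hO' hQ' hle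
  let i : TB Γ(V.left, O') (hO'.fromSpec ≫ V.hom) Γ(Z.left, Q') ⟶ Z := Over.homMk hQ'.fromSpec (by
    have h1 : γ.left ≫ V.hom = Z.hom := Over.w γ
    change _ ≫ Z.hom = Spec.map _ ≫ _ ≫ V.hom
    rw [← h1, ← Category.assoc, ← hφ, Category.assoc])
  have hiγ : i ≫ γ = hB Γ(V.left, O') (hO'.fromSpec ≫ V.hom) Γ(Z.left, Q') ≫ iV hO' := by
    apply Over.OverMorphism.ext
    exact hφ.symm
  refine ⟨_, i, inferInstanceAs (IsOpenImmersion hQ'.fromSpec), ?_, ?_⟩
  · change t ∈ Set.range hQ'.fromSpec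
    rw [hQ'.range_fromSpec]
    exact htQ
  · rw [← Category.assoc, ← Functor.map_comp, hiγ, Functor.map_comp, Category.assoc]
    apply cb_spec _ _ _ hqc
    intro s
    exact cb_mvPolynomial _ _ _ hX hY s (Fintype.card s)
      ((Fintype.equivFin s).trans Equiv.ulift.symm) (cb_piA_of_affineOpen p hO' hX hY _ (h _))

end step4

/-- **(3) ⇒ (1)** -/
theorem isUnivClosedMor_of_piA (hX : IsAlgSpace X) (hY : IsAlgSpace Y) (hqc : IsQuasiCompactMor f)
    {V : Over S} (p : (yon S).obj V ⟶ Y) (hpe : RepWith @Etale p) (hps : RepWith @Surjective p)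
    (h : ∀ n : ℕ, CB f ((yon S).map (piA n V) ≫ p)) : IsUnivClosedMor f := by
  refine univSp_of_chart (Q := IsClosedMor)
    (fun sq hq h => isClosedMor_of_quotient_base_change sq hq h) hY f p hpe hps
    (pullback.fst f p) (pullback.snd f p) (IsPullback.of_hasPullback f p) ?_
  refine univSp_of_forall_affine (Q := IsClosedMor)
    (fun snd h => isClosedMor_of_forall_affine snd h) _ ?_
  intro Z _ g P fst snd sq
  obtain ⟨γ, rfl⟩ := (yon S).map_surjective g
  exact (isClosedMap_snd_iff_cb (sq.paste_horiz (IsPullback.of_hasPullback f p))).2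
    (cb_of_piA hX hY hqc p h γ)

end Groth.Agent.Helper19.UCSp
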