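import Groth.Agent.Lib.Helper19.UCSp.Base

/-!
# Charts of base changes and the separation step (helper19)
-/

set_option autoImplicit false
set_option linter.style.haveILetI false
universe u
open CategoryTheory CategoryTheory.Limits AlgebraicGeometry MorphismProperty TopologicalSpace
open AlgSp Groth.Agent.Helper15 Groth.Agent.Helper16.AS

namespace Groth.Agent.Helper19.UCSp

variable {S : Scheme.{u}} {X Y : Sp S} {f : X ⟶ Y}

section chart

variable {T₀ T' U U' : Over S} {g₀ : (yon S).obj T₀ ⟶ Y} {u₀ : U ⟶ T₀}
  (a : (yon S).obj U ⟶ pullback f g₀) (ha : a ≫ pullback.snd f g₀ = (yon S).map u₀)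
  {h : T' ⟶ T₀} {pU : U' ⟶ U} {pT : U' ⟶ T'} (sqU : IsPullback pU pT u₀ h)

include ha sqU in
theorem chartBC_w : ((yon S).map pU ≫ a ≫ pullback.fst f g₀) ≫ f =
    (yon S).map pT ≫ (yon S).map h ≫ g₀ := by
  rw [Category.assoc, Category.assoc, pullback.condition, ← Category.assoc a, ha,
    ← Category.assoc, ← Category.assoc, ← Functor.map_comp, ← Functor.map_comp, sqU.w]

/-- the chart of the base change induced by a chart -/
noncomputable def chartBC : (yon S).obj U' ⟶ pullback f ((yon S).map h ≫ g₀) :=
  pullback.lift ((yon S).map pU ≫ a ≫ pullback.fst f g₀) ((yon S).map pT) (chartBC_w a ha sqU)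

@[reassoc]
theorem chartBC_snd : chartBC a ha sqU ≫ pullback.snd f ((yon S).map h ≫ g₀) = (yon S).map pT :=
  pullback.lift_snd _ _ _

@[reassoc]
theorem chartBC_fst : chartBC a ha sqU ≫ pullback.fst f ((yon S).map h ≫ g₀) =
    (yon S).map pU ≫ a ≫ pullback.fst f g₀ := pullback.lift_fst _ _ _

theorem chartBC_rho : chartBC a ha sqU ≫ rho h g₀ = (yon S).map pU ≫ a := by
  apply pullback.hom_ext
  · rw [Category.assoc, rho_fst, chartBC_fst, Category.assoc]
  · rw [Category.assoc, rho_snd, chartBC_snd_assoc, Category.assoc, ha, ← Functor.map_comp,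
      ← Functor.map_comp, sqU.w]

theorem isPullback_chartBC :
    IsPullback (chartBC a ha sqU) ((yon S).map pU) (rho h g₀) a := by
  refine IsPullback.of_right ?_ (chartBC_rho a ha sqU) (isPullback_rho (f := f) h g₀).flip
  rw [chartBC_snd, ha]
  exact (sqU.map (yon S)).flip

theorem repWith_chartBC {P : MorphismProperty Scheme.{u}} [P.IsStableUnderBaseChange]
    (hP : RepWith P a) : RepWith P (chartBC a ha sqU) :=
  (RepWith P).of_isPullback (isPullback_chartBC a ha sqU).flip hP

end chart

section sep

variable {Ts T Us UT : Over S} {gs : (yon S).obj Ts ⟶ Y}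
  (as : (yon S).obj Us ⟶ pullback f gs) {pTs : Us ⟶ Ts}
  (has : as ≫ pullback.snd f gs = (yon S).map pTs)
  (hase : RepWith @Etale as) (hass : RepWith @Surjective as)
  {k : T ⟶ Ts} {υ : UT ⟶ Us} (aT : (yon S).obj UT ⟶ pullback f ((yon S).map k ≫ gs))
  (sq : IsPullback aT ((yon S).map υ) (rho k gs) as)

include has hase hass sq in
/-- **The separation step**: a point of the base not in the image of a closed set, whose image at
the finite level is not hit by the closure of the image of the chart preimage, has an open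
neighbourhood missing the image. -/
theorem exists_open_nhd_of_level (hcb : CB f gs) (W : Set (Points (pullback f ((yon S).map k ≫ gs))))
    (t : T.left)
    (hlev : ∀ d ∈ closure (υ.left '' (Points.ofPt aT ⁻¹' W)), pTs.left d ≠ k.left t) :
    ∃ O : Set (Points ((yon S).obj T)), IsOpen O ∧ Points.ofScheme T t ∈ O ∧
      Disjoint O (Points.map (pullback.snd f ((yon S).map k ≫ gs)) '' W) := by
  have hCcl := hcb _ (isClosed_closure (s := Points.map (rho (f := f) k gs) '' W))
  refine ⟨Points.map ((yon S).map k) ⁻¹'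
    (Points.map (pullback.snd f gs) '' closure (Points.map (rho (f := f) k gs) '' W))ᶜ,
    hCcl.isOpen_compl.preimage (Points.continuous_map _), ?_, ?_⟩
  · rintro ⟨c, hc, hct⟩
    obtain ⟨d, rfl⟩ := surjective_ofPt as hass c
    have hopen := isOpenMap_ofPt_of_etale as hase
    have hd1 : d ∈ closure (Points.ofPt as ⁻¹' (Points.map (rho (f := f) k gs) '' W)) :=
      hopen.preimage_closure_subset_closure_preimage hc
    have hsub : Points.ofPt as ⁻¹' (Points.map (rho (f := f) k gs) '' W) ⊆
        υ.left '' (Points.ofPt aT ⁻¹' W) := by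
      rintro d₁ ⟨w, hw, hwd⟩
      rw [Points.ofPt_eq_map_ofScheme] at hwd
      obtain ⟨p, hp1, hp2⟩ := exists_point_of_isPullback sq w _ hwd
      obtain ⟨w', rfl⟩ := (Points.schemeEquiv UT).surjective p
      change Points.map _ (Points.ofScheme _ w') = _ at hp1
      change Points.map _ (Points.ofScheme _ w') = _ at hp2
      rw [← Points.ofPt_eq_map_ofScheme] at hp1 hp2
      rw [Groth.Agent.Helper15.ofPt_yon_map] at hp2
      refine ⟨w', ?_, (Points.schemeEquiv Us).injective hp2⟩
      change Points.ofPt aT w' ∈ W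
      rw [hp1]; exact hw
    have hd2 : d ∈ closure (υ.left '' (Points.ofPt aT ⁻¹' W)) := closure_mono hsub hd1
    apply hlev d hd2
    rw [Points.map_ofPt, has, Groth.Agent.Helper15.ofPt_yon_map] at hct
    have h2 : Points.map ((yon S).map k) (Points.ofScheme T t) = Points.ofScheme Ts (k.left t) := by
      rw [← Points.ofPt_eq_map_ofScheme, Groth.Agent.Helper15.ofPt_yon_map]
    rw [h2] at hct
    exact (Points.schemeEquiv Ts).injective hct
  · rw [Set.disjoint_left]
    rintro y hy ⟨w, hw, rfl⟩
    apply hy
    refine ⟨Points.map (rho k gs) w, subset_closure ⟨w, hw, rfl⟩, ?_⟩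
    rw [← Points.map_comp, ← Points.map_comp, rho_snd]

end sep

end Groth.Agent.Helper19.UCSp
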