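import Mathlib
import Groth.Agent.Lib.Helper4.UCAff1

/-!
# Universally closed via affine spaces for algebraic spaces: the ring-level step (helper19)

For a closed subset `Zc` of `Spec (A ⊗[R] B)` missing the fibre over a point `t` of `Spec B`, there
is a finite set `s` of elements of `B` such that the closure of the image of `Zc` in
`Spec (A ⊗[R] R[s])` misses the fibre over the image of `t` in `Spec R[s]`.
-/

set_option autoImplicit false
universe u
open TensorProduct

namespace Groth.Agent.Helper19.UCSp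

open Groth.Agent.Helper4.UCAff

variable (R : Type u) [CommRing R] (A : Type u) [CommRing A] [Algebra R A]
  (B : Type u) [CommRing B] [Algebra R B]

/-- evaluation `R[B] → B` -/
noncomputable abbrev ev : MvPolynomial B R →ₐ[R] B := MvPolynomial.aeval (fun b : B => b)

theorem ev_surjective : Function.Surjective (ev R B) := fun b => ⟨MvPolynomial.X b, by simp [ev]⟩

/-- evaluation `R[s] → B` for a finite set `s` of elements of `B` -/
noncomputable abbrev θ (s : Finset B) : MvPolynomial s R →ₐ[R] B :=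
  MvPolynomial.aeval (fun b : s => (b : B))

theorem ev_comp_ι (s : Finset B) : (ev R B).comp (ι R B s) = θ R B s := by
  apply MvPolynomial.algHom_ext
  intro i
  simp [ev, θ, ι]

/-- `A ⊗ R[s] → A ⊗ B` -/
noncomputable abbrev η (s : Finset B) : A ⊗[R] MvPolynomial s R →ₐ[A] A ⊗[R] B :=
  Algebra.TensorProduct.map (AlgHom.id A A) (θ R B s)

/-- `A ⊗ R[B] → A ⊗ B` -/
noncomputable abbrev ηΛ : A ⊗[R] MvPolynomial B R →ₐ[A] A ⊗[R] B :=
  Algebra.TensorProduct.map (AlgHom.id A A) (ev R B)

theorem ηΛ_surjective : Function.Surjective (ηΛ R A B) := by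
  intro x
  induction x using TensorProduct.induction_on with
  | zero => exact ⟨0, map_zero _⟩
  | tmul a b =>
    obtain ⟨p, rfl⟩ := ev_surjective R B b
    exact ⟨a ⊗ₜ p, by simp [ηΛ]⟩
  | add x y hx hy =>
    obtain ⟨x', rfl⟩ := hx
    obtain ⟨y', rfl⟩ := hy
    exact ⟨x' + y', map_add _ _ _⟩

theorem ηΛ_comp_j (s : Finset B) : (ηΛ R A B).comp (j R B A s) = η R A B s := by
  apply Algebra.TensorProduct.ext'
  intro a p
  simp only [AlgHom.comp_apply, Algebra.TensorProduct.map_tmul, AlgHom.coe_id, id_eq]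
  congr 1
  exact congrArg (fun φ => φ p) (ev_comp_ι R B s)

/-- `B → A ⊗ B` -/
noncomputable abbrev inclB : B →+* A ⊗[R] B :=
  (Algebra.TensorProduct.includeRight : B →ₐ[R] A ⊗[R] B).toRingHom

theorem ηΛ_incl (p : MvPolynomial B R) :
    ηΛ R A B (incl R A B p) = inclB R A B (ev R B p) := by
  change Algebra.TensorProduct.map (AlgHom.id A A) (ev R B) ((1 : A) ⊗ₜ[R] p) =
    (1 : A) ⊗ₜ[R] (ev R B p)
  rw [Algebra.TensorProduct.map_tmul, map_one]

theorem η_incl (s : Finset B) (p : MvPolynomial s R) :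
    η R A B s (incl R A s p) = inclB R A B (θ R B s p) := by
  change Algebra.TensorProduct.map (AlgHom.id A A) (θ R B s) ((1 : A) ⊗ₜ[R] p) =
    (1 : A) ⊗ₜ[R] (θ R B s p)
  rw [Algebra.TensorProduct.map_tmul, map_one]

/-- **The ring-level step.** -/
theorem exists_finset_closure_fibre_empty (Zc : Set (PrimeSpectrum (A ⊗[R] B))) (hZc : IsClosed Zc)
    (t : PrimeSpectrum B) (ht : ∀ Q ∈ Zc, PrimeSpectrum.comap (inclB R A B) Q ≠ t) :
    ∃ s : Finset B, ∀ d ∈ closure (PrimeSpectrum.comap (η R A B s).toRingHom '' Zc),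
      PrimeSpectrum.comap (incl R A s) d ≠ PrimeSpectrum.comap (θ R B s).toRingHom t := by
  classical
  set I := PrimeSpectrum.vanishingIdeal Zc with hIdef
  have hI : PrimeSpectrum.zeroLocus (I : Set (A ⊗[R] B)) = Zc := by
    rw [PrimeSpectrum.zeroLocus_vanishingIdeal_eq_closure, hZc.closure_eq]
  set I' := I.comap (ηΛ R A B).toRingHom with hI'
  set t' := t.asIdeal.comap (ev R B).toRingHom with ht'
  haveI : t'.IsPrime := Ideal.comap_isPrime _ _
  have hno : ¬ ∃ Q : Ideal (A ⊗[R] MvPolynomial B R), Q.IsPrime ∧ I' ≤ Q ∧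
      Q.comap (incl R A B) = t' := by
    rintro ⟨Q, hQp, hIQ, hQt⟩
    -- `Q` contains the kernel, hence is a comap
    have hker : RingHom.ker (ηΛ R A B).toRingHom ≤ Q := by
      refine le_trans ?_ hIQ
      intro x hx
      rw [hI', Ideal.mem_comap]
      rw [RingHom.mem_ker] at hx
      rw [hx]
      exact zero_mem _
    have hsurj : Function.Surjective (ηΛ R A B).toRingHom := ηΛ_surjective R A B
    have hQ' : (Q.map (ηΛ R A B).toRingHom).comap (ηΛ R A B).toRingHom = Q :=
      Ideal.comap_map_of_surjective' _ hsurj Q |>.trans (by rw [sup_eq_left]; exact hker)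
    have hQ'p : (Q.map (ηΛ R A B).toRingHom).IsPrime :=
      Ideal.map_isPrime_of_surjective hsurj hker
    let Qb : PrimeSpectrum (A ⊗[R] B) := ⟨Q.map (ηΛ R A B).toRingHom, hQ'p⟩
    have hQbZ : Qb ∈ Zc := by
      rw [← hI, PrimeSpectrum.mem_zeroLocus]
      intro x hx
      obtain ⟨y, rfl⟩ := hsurj x
      exact Ideal.mem_map_of_mem _ (hIQ (by rw [hI', Ideal.mem_comap]; exact hx))
    apply ht Qb hQbZ
    apply PrimeSpectrum.ext
    -- compare ideals of `B` after comap along the surjection `ev`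
    have hev : Function.Surjective (ev R B).toRingHom := ev_surjective R B
    have h1 : ((Qb.asIdeal.comap (inclB R A B)).comap (ev R B).toRingHom) = t' := by
      rw [← hQt, ← hQ']
      ext p
      simp only [Ideal.mem_comap]
      change inclB R A B (ev R B p) ∈ _ ↔ ηΛ R A B (incl R A B p) ∈ _
      rw [ηΛ_incl]
    have h2 := congrArg (Ideal.map (ev R B).toRingHom) h1
    rw [Ideal.map_comap_of_surjective _ hev, ht', Ideal.map_comap_of_surjective _ hev] at h2
    exact h2
  obtain ⟨s, hs⟩ := exists_finset_fibre_empty I' t' hno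
  refine ⟨s, fun d hd hdt => ?_⟩
  apply hs s (Finset.Subset.refl s)
  refine ⟨d.asIdeal, d.2, ?_, ?_⟩
  · -- `d` lies in the zero locus of the contraction
    have hsub : PrimeSpectrum.comap (η R A B s).toRingHom '' Zc ⊆
        PrimeSpectrum.zeroLocus ((I'.comap (j R B A s).toRingHom : Ideal _) : Set _) := by
      rintro _ ⟨Q, hQ, rfl⟩
      rw [PrimeSpectrum.mem_zeroLocus]
      intro x hx
      have hx' : (ηΛ R A B) ((j R B A s) x) ∈ I := hx
      have hQI : I ≤ Q.asIdeal := by
        rw [← hI] at hQ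
        exact (PrimeSpectrum.mem_zeroLocus _ _).mp hQ
      change (η R A B s) x ∈ Q.asIdeal
      rw [← ηΛ_comp_j]
      exact hQI hx'
    have hd' := closure_minimal hsub (PrimeSpectrum.isClosed_zeroLocus _) hd
    exact (PrimeSpectrum.mem_zeroLocus _ _).mp hd'
  · have := congrArg PrimeSpectrum.asIdeal hdt
    change d.asIdeal.comap (incl R A s) = t.asIdeal.comap (θ R B s).toRingHom at this
    rw [this, ht', ← ev_comp_ι]
    rfl

end Groth.Agent.Helper19.UCSp
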