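import Mathlib
import Groth.Prelude
import Groth.Agent.Lib.Helper15.AlgSpMorTop
import Groth.Agent.Lib.Helper15.AlgSpUniv
import Groth.Agent.Lib.Helper16.AlgSp.LargestOpen

/-!
# Closedness of base changes to schemes: restriction, localisation and charts (helper19)
-/

set_option autoImplicit false
set_option linter.style.haveILetI false
universe u
open CategoryTheory CategoryTheory.Limits AlgebraicGeometry MorphismProperty TopologicalSpace
open AlgSp Groth.Agent.Helper15 Groth.Agent.Helper16.AS

namespace Groth.Agent.Helper19.UCSp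

variable {S : Scheme.{u}} {X Y : Sp S} (f : X ⟶ Y)

/-- closedness (on points) of the base change of `f` to a scheme over the target -/
def CB {T : Over S} (g : (yon S).obj T ⟶ Y) : Prop :=
  IsClosedMap (Points.map (pullback.snd f g))

/-- an isomorphism of sheaves induces a homeomorphism on points -/
noncomputable def pointsHomeo {P Q : Sp S} (e : P ≅ Q) : Points P ≃ₜ Points Q where
  toFun := Points.map e.hom
  invFun := Points.map e.inv
  left_inv x := by rw [← Points.map_comp, e.hom_inv_id, Points.map_id]
  right_inv x := by rw [← Points.map_comp, e.inv_hom_id, Points.map_id]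
  continuous_toFun := Points.continuous_map _
  continuous_invFun := Points.continuous_map _

variable {f}

theorem isClosedMap_snd_iff_cb {T : Over S} {g : (yon S).obj T ⟶ Y} {P : Sp S} {fst : P ⟶ X}
    {snd : P ⟶ (yon S).obj T} (sq : IsPullback fst snd f g) :
    IsClosedMap (Points.map snd) ↔ CB f g := by
  have h1 : Points.map snd = Points.map (pullback.snd f g) ∘ pointsHomeo sq.isoPullback := by
    funext x
    change _ = Points.map _ (Points.map sq.isoPullback.hom x)
    rw [← Points.map_comp, sq.isoPullback_hom_snd]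
  have h2 : Points.map (pullback.snd f g) = Points.map snd ∘ (pointsHomeo sq.isoPullback).symm := by
    funext x
    change _ = Points.map _ (Points.map sq.isoPullback.inv x)
    rw [← Points.map_comp, sq.isoPullback_inv_snd]
  constructor
  · intro h
    unfold CB
    rw [h2]
    exact h.comp (pointsHomeo sq.isoPullback).symm.isClosedMap
  · intro h
    rw [h1]
    exact IsClosedMap.comp h (pointsHomeo sq.isoPullback).isClosedMap

section restrict

variable {T T' : Over S} (i : T' ⟶ T) (g : (yon S).obj T ⟶ Y)

/-- the base change map `X_{T'} ⟶ X_T` -/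
noncomputable def rho : pullback f ((yon S).map i ≫ g) ⟶ pullback f g :=
  pullback.lift (pullback.fst f ((yon S).map i ≫ g))
    (pullback.snd f ((yon S).map i ≫ g) ≫ (yon S).map i)
    (by rw [pullback.condition, Category.assoc])

@[reassoc]
theorem rho_fst : rho i g ≫ pullback.fst f g = pullback.fst f ((yon S).map i ≫ g) :=
  pullback.lift_fst _ _ _

@[reassoc]
theorem rho_snd : rho i g ≫ pullback.snd f g =
    pullback.snd f ((yon S).map i ≫ g) ≫ (yon S).map i := pullback.lift_snd _ _ _

theorem isPullback_rho : IsPullback (rho (f := f) i g) (pullback.snd f ((yon S).map i ≫ g))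
    (pullback.snd f g) ((yon S).map i) := by
  refine IsPullback.of_right ?_ (rho_snd i g) (IsPullback.of_hasPullback f g)
  rw [rho_fst]
  exact IsPullback.of_hasPullback f _

theorem cb_comp_of_isOpenImmersion (hX : IsAlgSpace X) (hY : IsAlgSpace Y)
    (hi : IsOpenImmersion i.left) (h : CB f g) : CB f ((yon S).map i ≫ g) := by
  have sqρ := isPullback_rho (f := f) i g
  have hρ : RepWith @IsOpenImmersion (rho (f := f) i g) :=
    (RepWith @IsOpenImmersion).of_isPullback sqρ.flip ((repWith_yon_map_iff _ i).2 hi)
  have hP : IsAlgSpace (pullback f g) :=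
    isAlgSpace_of_isPullback hY.diag hX (IsAlgSpace.yon_obj T) (IsPullback.of_hasPullback f g)
  obtain ⟨Wq, q, hqe, hqs⟩ := hP.atlas
  have hopen : IsOpenMap (Points.map (rho (f := f) i g)) :=
    isOpenMor_of_repWith _ (P := @IsOpenImmersion) (fun φ hφ => by
      haveI : IsOpenImmersion φ := hφ
      exact φ.isOpenMap) hρ q hqe hqs
  have hinj : Function.Injective (Points.map (rho (f := f) i g)) :=
    injective_points_map_of_open _ hρ
  intro W' hW'
  have hC := h _ (isClosed_closure (s := Points.map (rho (f := f) i g) '' W'))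
  have : Points.map (pullback.snd f ((yon S).map i ≫ g)) '' W' =
      Points.map ((yon S).map i) ⁻¹'
        (Points.map (pullback.snd f g) '' closure (Points.map (rho (f := f) i g) '' W')) := by
    ext y'
    constructor
    · rintro ⟨w', hw', rfl⟩
      refine ⟨Points.map (rho i g) w', subset_closure ⟨w', hw', rfl⟩, ?_⟩
      rw [← Points.map_comp, ← Points.map_comp, rho_snd]
    · rintro ⟨c, hc, hcy⟩
      obtain ⟨w', hw'1, hw'2⟩ := exists_point_of_isPullback sqρ c y' hcy
      refine ⟨w', ?_, hw'2⟩
      have h1 : w' ∈ Points.map (rho (f := f) i g) ⁻¹'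
          closure (Points.map (rho (f := f) i g) '' W') := by
        rw [Set.mem_preimage, hw'1]; exact hc
      have h2 := hopen.preimage_closure_subset_closure_preimage h1
      rw [Set.preimage_image_eq _ hinj, hW'.closure_eq] at h2
      exact h2
  rw [this]
  exact hC.preimage (Points.continuous_map _)

theorem isOpenMap_points_yon_map (hi : IsOpenImmersion i.left) :
    IsOpenMap (Points.map ((yon S).map i)) := by
  obtain ⟨Wq, q, hqe, hqs⟩ := (IsAlgSpace.yon_obj T).atlas
  exact isOpenMor_of_repWith _ (P := @IsOpenImmersion) (fun φ hφ => by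
    haveI : IsOpenImmersion φ := hφ
    exact φ.isOpenMap) ((repWith_yon_map_iff _ i).2 hi) q hqe hqs

end restrict

/-- closedness of the base change to a scheme is local on that scheme -/
theorem cb_of_local {T : Over S} (g : (yon S).obj T ⟶ Y)
    (h : ∀ t : T.left, ∃ (T' : Over S) (i : T' ⟶ T), IsOpenImmersion i.left ∧
      t ∈ Set.range i.left ∧ CB f ((yon S).map i ≫ g)) : CB f g := by
  intro W hW
  rw [← isOpen_compl_iff, isOpen_iff_forall_mem_open]
  intro y hy
  obtain ⟨t, rfl⟩ := (Points.schemeEquiv T).surjective y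
  obtain ⟨T', i, hi, ⟨t', rfl⟩, hcb⟩ := h t
  have sqρ := isPullback_rho (f := f) i g
  have hO' : IsOpen (Points.map (pullback.snd f ((yon S).map i ≫ g)) ''
      (Points.map (rho (f := f) i g) ⁻¹' W))ᶜ :=
    (hcb _ (hW.preimage (Points.continuous_map _))).isOpen_compl
  have hyt : (Points.schemeEquiv T) (i.left t') =
      Points.map ((yon S).map i) (Points.ofScheme T' t') := by
    rw [← Points.ofPt_eq_map_ofScheme, Groth.Agent.Helper15.ofPt_yon_map]
    rfl
  refine ⟨Points.map ((yon S).map i) '' (Points.map (pullback.snd f ((yon S).map i ≫ g)) ''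
      (Points.map (rho (f := f) i g) ⁻¹' W))ᶜ, ?_, isOpenMap_points_yon_map i hi _ hO', ?_⟩
  · rintro _ ⟨y', hy', rfl⟩ ⟨w, hw, hwy⟩
    apply hy'
    obtain ⟨w', hw'1, hw'2⟩ := exists_point_of_isPullback sqρ w y' hwy
    exact ⟨w', by rw [Set.mem_preimage, hw'1]; exact hw, hw'2⟩
  · refine ⟨Points.ofScheme T' t', ?_, hyt.symm⟩
    rintro ⟨w', hw', hw't⟩
    apply hy
    refine ⟨Points.map (rho i g) w', hw', ?_⟩
    rw [hyt, ← hw't, ← Points.map_comp, ← Points.map_comp, rho_snd]

end Groth.Agent.Helper19.UCSp
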