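import Groth.Agent.Lib.Helper19.UCSp.Alg
import Groth.Agent.Lib.Helper19.UCSp.Chart

/-!
# The affine core: closedness over `Spec B` from closedness over all `Spec R[s]` (helper19)
-/

set_option autoImplicit false
set_option linter.style.haveILetI false
universe u
open CategoryTheory CategoryTheory.Limits AlgebraicGeometry MorphismProperty TopologicalSpace
open AlgSp Groth.Agent.Helper15 Groth.Agent.Helper16.AS TensorProduct

namespace Groth.Agent.Helper19.UCSp

open Groth.Agent.Helper4.UCAff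

variable {S : Scheme.{u}} (R : Type u) [CommRing R] (σ : Spec (CommRingCat.of R) ⟶ S)

/-- `Spec B` over `S`, for an `R`-algebra `B` -/
noncomputable def TB (B : Type u) [CommRing B] [Algebra R B] : Over S :=
  Over.mk (Spec.map (CommRingCat.ofHom (algebraMap R B)) ≫ σ)

/-- the structure map `Spec B ⟶ Spec R` over `S` -/
noncomputable def hB (B : Type u) [CommRing B] [Algebra R B] : TB R σ B ⟶ Over.mk σ :=
  Over.homMk (Spec.map (CommRingCat.ofHom (algebraMap R B))) rfl

/-- the map `Spec B' ⟶ Spec B` over `S` induced by an `R`-algebra map -/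
noncomputable def kB {B B' : Type u} [CommRing B] [Algebra R B] [CommRing B'] [Algebra R B']
    (φ : B →ₐ[R] B') : TB R σ B' ⟶ TB R σ B :=
  Over.homMk (Spec.map (CommRingCat.ofHom φ.toRingHom)) (by
    change Spec.map _ ≫ Spec.map _ ≫ σ = Spec.map _ ≫ σ
    rw [← Category.assoc, ← Spec.map_comp, ← CommRingCat.ofHom_comp]
    congr 3
    exact φ.comp_algebraMap)

theorem kB_hB {B B' : Type u} [CommRing B] [Algebra R B] [CommRing B'] [Algebra R B']
    (φ : B →ₐ[R] B') : kB R σ φ ≫ hB R σ B = hB R σ B' := by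
  apply Over.OverMorphism.ext
  change Spec.map _ ≫ Spec.map _ = Spec.map _
  rw [← Spec.map_comp, ← CommRingCat.ofHom_comp]
  congr 2
  exact φ.comp_algebraMap

variable (A : Type u) [CommRing A] [Algebra R A]

/-- `Spec (A ⊗ B) ⟶ Spec A` -/
noncomputable def pU (B : Type u) [CommRing B] [Algebra R B] : TB R σ (A ⊗[R] B) ⟶ TB R σ A :=
  kB R σ (Algebra.TensorProduct.includeLeft : A →ₐ[R] A ⊗[R] B)

/-- `Spec (A ⊗ B) ⟶ Spec B` -/
noncomputable def pT (B : Type u) [CommRing B] [Algebra R B] : TB R σ (A ⊗[R] B) ⟶ TB R σ B :=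
  kB R σ (Algebra.TensorProduct.includeRight : B →ₐ[R] A ⊗[R] B)

theorem isPullback_sqU (B : Type u) [CommRing B] [Algebra R B] :
    IsPullback (pU R σ A B) (pT R σ A B) (hB R σ A) (hB R σ B) := by
  have h := isPullback_SpecMap_of_isPushout _ _ _ _ (CommRingCat.isPushout_tensorProduct R A B)
  refine IsPullback.of_map (Over.forget S) ?_ h
  rw [pU, pT, kB_hB, kB_hB]

theorem kB_comp {B B' B'' : Type u} [CommRing B] [Algebra R B] [CommRing B'] [Algebra R B']
    [CommRing B''] [Algebra R B''] (φ : B →ₐ[R] B') (ψ : B' →ₐ[R] B'') :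
    kB R σ ψ ≫ kB R σ φ = kB R σ (ψ.comp φ) := by
  apply Over.OverMorphism.ext
  change Spec.map _ ≫ Spec.map _ = Spec.map _
  rw [← Spec.map_comp, ← CommRingCat.ofHom_comp]
  rfl

section main

variable (B : Type u) [CommRing B] [Algebra R B]

/-- `Spec (A ⊗ B) ⟶ Spec (A ⊗ R[s])` -/
noncomputable def ups (s : Finset B) :
    TB R σ (A ⊗[R] B) ⟶ TB R σ (A ⊗[R] MvPolynomial s R) :=
  kB R σ ((η R A B s).restrictScalars R)

theorem ups_pU (s : Finset B) : ups R σ A B s ≫ pU R σ A (MvPolynomial s R) = pU R σ A B := by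
  rw [ups, pU, pU, kB_comp]
  congr 1
  apply AlgHom.ext
  intro x
  simp [η]

theorem ups_pT (s : Finset B) : ups R σ A B s ≫ pT R σ A (MvPolynomial s R) =
    pT R σ A B ≫ kB R σ (θ R B s) := by
  rw [ups, pT, pT, kB_comp, kB_comp]
  congr 1

theorem isPullback_sqU' (s : Finset B) :
    IsPullback (ups R σ A B s) (pT R σ A B) (pT R σ A (MvPolynomial s R)) (kB R σ (θ R B s)) := by
  refine IsPullback.of_right ?_ (ups_pT R σ A B s) (isPullback_sqU R σ A (MvPolynomial s R))
  rw [ups_pU, kB_hB]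
  exact isPullback_sqU R σ A B

variable {X Y : Sp S} {f : X ⟶ Y} (g₀ : (yon S).obj (Over.mk σ) ⟶ Y)
  (a : (yon S).obj (TB R σ A) ⟶ pullback f g₀)
  (ha : a ≫ pullback.snd f g₀ = (yon S).map (hB R σ A))
  (hae : RepWith @Etale a) (has : RepWith @Surjective a)

include ha hae has in
theorem key_sep (gB : (yon S).obj (TB R σ B) ⟶ Y)
    (aB : (yon S).obj (TB R σ (A ⊗[R] B)) ⟶ pullback f gB)
    (haB1 : aB ≫ pullback.fst f gB = (yon S).map (pU R σ A B) ≫ a ≫ pullback.fst f g₀)
    (haB2 : aB ≫ pullback.snd f gB = (yon S).map (pT R σ A B)) (s : Finset B)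
    (hE : gB = (yon S).map (kB R σ (θ R B s)) ≫ (yon S).map (hB R σ (MvPolynomial s R)) ≫ g₀)
    (hcb : CB f ((yon S).map (hB R σ (MvPolynomial s R)) ≫ g₀))
    (W : Set (Points (pullback f gB))) (t : (TB R σ B).left)
    (hlev : ∀ d ∈ closure ((ups R σ A B s).left '' (Points.ofPt aB ⁻¹' W)),
      (pT R σ A (MvPolynomial s R)).left d ≠ (kB R σ (θ R B s)).left t) :
    ∃ O : Set (Points ((yon S).obj (TB R σ B))), IsOpen O ∧ Points.ofScheme (TB R σ B) t ∈ O ∧
      Disjoint O (Points.map (pullback.snd f gB) '' W) := by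
  subst hE
  have hchart : aB = chartBC (chartBC a ha (isPullback_sqU R σ A (MvPolynomial s R)))
      (chartBC_snd a ha (isPullback_sqU R σ A (MvPolynomial s R))) (isPullback_sqU' R σ A B s) := by
    apply pullback.hom_ext
    · rw [haB1, chartBC_fst, chartBC_fst, ← Category.assoc ((yon S).map _) ((yon S).map _),
        ← Functor.map_comp, ups_pU]
    · rw [haB2, chartBC_snd]
  subst hchart
  exact exists_open_nhd_of_level _ (chartBC_snd a ha (isPullback_sqU R σ A (MvPolynomial s R)))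
    (repWith_chartBC a ha _ hae) (repWith_chartBC a ha _ has) _
    (isPullback_chartBC _ _ (isPullback_sqU' R σ A B s)) hcb W t hlev

include ha hae has in
/-- **The affine core.** -/
theorem cb_of_finset (hcb : ∀ s : Finset B, CB f ((yon S).map (hB R σ (MvPolynomial s R)) ≫ g₀)) :
    CB f ((yon S).map (hB R σ B) ≫ g₀) := by
  intro W hW
  rw [← isOpen_compl_iff, isOpen_iff_forall_mem_open]
  intro y hy
  obtain ⟨t, rfl⟩ := (Points.schemeEquiv (TB R σ B)).surjective y
  set aB := chartBC a ha (isPullback_sqU R σ A B) with haB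
  set Zc : Set (PrimeSpectrum (A ⊗[R] B)) := Points.ofPt aB ⁻¹' W with hZc
  have hZcl : IsClosed Zc := hW.preimage (Points.continuous_ofPt aB)
  have ht : ∀ Q ∈ Zc, PrimeSpectrum.comap (inclB R A B) Q ≠ t := by
    intro Q hQ hQt
    apply hy
    refine ⟨Points.ofPt aB Q, hQ, ?_⟩
    rw [Points.map_ofPt, haB, chartBC_snd, Groth.Agent.Helper15.ofPt_yon_map]
    change Points.ofScheme _ _ = Points.ofScheme _ _
    congr 1
  obtain ⟨s, hs⟩ := exists_finset_closure_fibre_empty R A B Zc hZcl t ht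
  have hE : (yon S).map (hB R σ B) ≫ g₀ =
      (yon S).map (kB R σ (θ R B s)) ≫ (yon S).map (hB R σ (MvPolynomial s R)) ≫ g₀ := by
    rw [← Category.assoc, ← Functor.map_comp, kB_hB]
  obtain ⟨O, hO, htO, hdisj⟩ := key_sep R σ A B g₀ a ha hae has _ aB
    (chartBC_fst a ha _) (chartBC_snd a ha _) s hE (hcb s) W t hs
  refine ⟨O, ?_, hO, htO⟩
  intro z hz hzW
  exact Set.disjoint_left.mp hdisj hz hzW

end main

end Groth.Agent.Helper19.UCSp
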