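import Groth.Agent.Lib.Helper19.UCSp.Main

/-!
# Separating a point from a closed subset of a base change at a finitely presented level (helper19)
-/

set_option autoImplicit false
set_option linter.style.haveILetI false
universe u
open CategoryTheory CategoryTheory.Limits AlgebraicGeometry MorphismProperty TopologicalSpace
open AlgSp Groth.Agent.Helper15 Groth.Agent.Helper16.AS TensorProduct

namespace Groth.Agent.Helper19.UCSp

open Groth.Agent.Helper4.UCAff

variable {S : Scheme.{u}} {X Y : Sp S} {f : X ⟶ Y}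

section sep

variable {Ts T Us UT : Over S} {gs : (yon S).obj Ts ⟶ Y}
  (as : (yon S).obj Us ⟶ pullback f gs) {pTs : Us ⟶ Ts}
  (has : as ≫ pullback.snd f gs = (yon S).map pTs)
  (hase : RepWith @Etale as) (hass : RepWith @Surjective as)
  {k : T ⟶ Ts} {υ : UT ⟶ Us} (aT : (yon S).obj UT ⟶ pullback f ((yon S).map k ≫ gs))
  (sq : IsPullback aT ((yon S).map υ) (rho k gs) as)

include has hase hass sq in
/-- the closure of the image at the finite level misses the fibre over the image of `t` -/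
theorem not_mem_of_level (W : Set (Points (pullback f ((yon S).map k ≫ gs)))) (t : T.left)
    (hlev : ∀ d ∈ closure (υ.left '' (Points.ofPt aT ⁻¹' W)), pTs.left d ≠ k.left t) :
    ∀ c ∈ closure (Points.map (rho (f := f) k gs) '' W),
      Points.map (pullback.snd f gs) c ≠ Points.ofScheme Ts (k.left t) := by
  intro c hc hct
  obtain ⟨d, rfl⟩ := surjective_ofPt as hass c
  have hopen := isOpenMap_ofPt_of_etale as hase
  have hd1 : d ∈ closure (Points.ofPt as ⁻¹' (Points.map (rho (f := f) k gs) '' W)) :=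
    hopen.preimage_closure_subset_closure_preimage hc
  have hsub : Points.ofPt as ⁻¹' (Points.map (rho (f := f) k gs) '' W) ⊆
      υ.left '' (Points.ofPt aT ⁻¹' W) := by
    rintro d₁ ⟨w, hw, hwd⟩
    rw [Points.ofPt_eq_map_ofScheme] at hwd
    obtain ⟨p, hp1, hp2⟩ := exists_point_of_isPullback sq w _ hwd
    obtain ⟨w', rfl⟩ := (Points.schemeEquiv UT).surjective p
    change Points.map _ (Points.ofScheme _ w') = _ at hp1
    change Points.map _ (Points.ofScheme _ w') = _ at hp2
    rw [← Points.ofPt_eq_map_ofScheme] at hp1 hp2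
    rw [Groth.Agent.Helper15.ofPt_yon_map] at hp2
    refine ⟨w', ?_, (Points.schemeEquiv Us).injective hp2⟩
    change Points.ofPt aT w' ∈ W
    rw [hp1]; exact hw
  have hd2 : d ∈ closure (υ.left '' (Points.ofPt aT ⁻¹' W)) := closure_mono hsub hd1
  apply hlev d hd2
  rw [Points.map_ofPt, has, Groth.Agent.Helper15.ofPt_yon_map] at hct
  exact (Points.schemeEquiv Ts).injective hct

end sep

section core

variable (R : Type u) [CommRing R] (σ : Spec (CommRingCat.of R) ⟶ S)
  (A : Type u) [CommRing A] [Algebra R A] (B : Type u) [CommRing B] [Algebra R B]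
  (g₀ : (yon S).obj (Over.mk σ) ⟶ Y)
  (a : (yon S).obj (TB R σ A) ⟶ pullback f g₀)
  (ha : a ≫ pullback.snd f g₀ = (yon S).map (hB R σ A))
  (hae : RepWith @Etale a) (has : RepWith @Surjective a)

include ha hae has in
theorem key_level (gB : (yon S).obj (TB R σ B) ⟶ Y)
    (aB : (yon S).obj (TB R σ (A ⊗[R] B)) ⟶ pullback f gB)
    (haB1 : aB ≫ pullback.fst f gB = (yon S).map (pU R σ A B) ≫ a ≫ pullback.fst f g₀)
    (haB2 : aB ≫ pullback.snd f gB = (yon S).map (pT R σ A B)) (s : Finset B)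
    (hE : gB = (yon S).map (kB R σ (θ R B s)) ≫ (yon S).map (hB R σ (MvPolynomial s R)) ≫ g₀)
    (W : Set (Points (pullback f gB))) (t : (TB R σ B).left)
    (hlev : ∀ d ∈ closure ((ups R σ A B s).left '' (Points.ofPt aB ⁻¹' W)),
      (pT R σ A (MvPolynomial s R)).left d ≠ (kB R σ (θ R B s)).left t) :
    ∃ T' : Set (Points (pullback f ((yon S).map (hB R σ (MvPolynomial s R)) ≫ g₀))), IsClosed T' ∧
      (∀ c ∈ T', Points.map (pullback.snd f ((yon S).map (hB R σ (MvPolynomial s R)) ≫ g₀)) c ≠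
        Points.ofScheme _ ((kB R σ (θ R B s)).left t)) ∧
      ∀ (m : pullback f gB ⟶ pullback f ((yon S).map (hB R σ (MvPolynomial s R)) ≫ g₀)),
        m ≫ pullback.fst f _ = pullback.fst f gB →
        m ≫ pullback.snd f _ = pullback.snd f gB ≫ (yon S).map (kB R σ (θ R B s)) →
        ∀ w ∈ W, Points.map m w ∈ T' := by
  subst hE
  have hchart : aB = chartBC (chartBC a ha (isPullback_sqU R σ A (MvPolynomial s R)))
      (chartBC_snd a ha (isPullback_sqU R σ A (MvPolynomial s R))) (isPullback_sqU' R σ A B s) := by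
    apply pullback.hom_ext
    · rw [haB1, chartBC_fst, chartBC_fst, ← Category.assoc ((yon S).map _) ((yon S).map _),
        ← Functor.map_comp, ups_pU]
    · rw [haB2, chartBC_snd]
  subst hchart
  refine ⟨closure (Points.map (rho (f := f) (kB R σ (θ R B s))
    ((yon S).map (hB R σ (MvPolynomial s R)) ≫ g₀)) '' W), isClosed_closure, ?_, ?_⟩
  · exact not_mem_of_level _ (chartBC_snd a ha (isPullback_sqU R σ A (MvPolynomial s R)))
      (repWith_chartBC a ha _ hae) (repWith_chartBC a ha _ has) _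
      (isPullback_chartBC _ _ (isPullback_sqU' R σ A B s)) W t hlev
  · intro m hm1 hm2 w hw
    have hm : m = rho (kB R σ (θ R B s)) ((yon S).map (hB R σ (MvPolynomial s R)) ≫ g₀) := by
      apply pullback.hom_ext
      · rw [hm1, rho_fst]
      · rw [hm2, rho_snd]
    rw [hm]
    exact subset_closure ⟨w, hw, rfl⟩

include ha hae has in
set_option maxHeartbeats 800000 in
/-- **Core of the separation statement**, in terms of affine data. -/
theorem sep72_core {Z : Sp S} (g : Z ⟶ Y) (e : (yon S).obj (TB R σ B) ⟶ Z)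
    (heg : e ≫ g = (yon S).map (hB R σ B) ≫ g₀)
    (P : Sp S) (p₁ : P ⟶ X) (p₂ : P ⟶ Z) (hP : IsPullback p₁ p₂ f g)
    (T : Set (Points P)) (hT : IsClosed T) (v : (TB R σ B).left)
    (hv : Points.ofPt e v ∉ Points.map p₂ '' T) :
    ∃ s : Finset B, ∀ (P' : Sp S) (q₁ : P' ⟶ X)
      (q₂ : P' ⟶ (yon S).obj (TB R σ (MvPolynomial s R))),
      IsPullback q₁ q₂ f ((yon S).map (hB R σ (MvPolynomial s R)) ≫ g₀) →
      ∃ T' : Set (Points P'), IsClosed T' ∧
        Points.schemeEquiv (TB R σ (MvPolynomial s R)) ((kB R σ (θ R B s)).left v) ∉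
          Points.map q₂ '' T' ∧
        ∀ (PV : Sp S) (r₁ : PV ⟶ X) (r₂ : PV ⟶ (yon S).obj (TB R σ B)),
          IsPullback r₁ r₂ f (e ≫ g) → ∀ (κ₁ : PV ⟶ P) (κ₂ : PV ⟶ P'), κ₁ ≫ p₁ = r₁ →
            κ₁ ≫ p₂ = r₂ ≫ e → κ₂ ≫ q₁ = r₁ →
            κ₂ ≫ q₂ = r₂ ≫ (yon S).map (kB R σ (θ R B s)) →
            ∀ w : Points PV, Points.map κ₁ w ∈ T → Points.map κ₂ w ∈ T' := by
  obtain ⟨gB, hgB⟩ : ∃ gB, gB = (yon S).map (hB R σ B) ≫ g₀ := ⟨_, rfl⟩
  have heg' : e ≫ g = gB := by rw [hgB]; exact heg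
  let κc : pullback f gB ⟶ P := hP.lift (pullback.fst f gB) (pullback.snd f gB ≫ e) (by
    rw [pullback.condition, Category.assoc, heg'])
  have hκc1 : κc ≫ p₁ = pullback.fst f gB := hP.lift_fst _ _ _
  have hκc2 : κc ≫ p₂ = pullback.snd f gB ≫ e := hP.lift_snd _ _ _
  set W : Set (Points (pullback f gB)) := Points.map κc ⁻¹' T with hW
  have hWcl : IsClosed W := hT.preimage (Points.continuous_map κc)
  obtain ⟨aB, haB⟩ : ∃ aB : (yon S).obj (TB R σ (A ⊗[R] B)) ⟶ pullback f gB,
      aB ≫ pullback.fst f gB = (yon S).map (pU R σ A B) ≫ a ≫ pullback.fst f g₀ ∧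
        aB ≫ pullback.snd f gB = (yon S).map (pT R σ A B) := by
    subst hgB
    exact ⟨chartBC a ha (isPullback_sqU R σ A B), chartBC_fst a ha _, chartBC_snd a ha _⟩
  obtain ⟨haB1, haB2⟩ := haB
  set Zc : Set (PrimeSpectrum (A ⊗[R] B)) := Points.ofPt aB ⁻¹' W with hZc
  have hZcl : IsClosed Zc := hWcl.preimage (Points.continuous_ofPt aB)
  have ht : ∀ Q ∈ Zc, PrimeSpectrum.comap (inclB R A B) Q ≠ v := by
    intro Q hQ hQt
    apply hv
    refine ⟨Points.map κc (Points.ofPt aB Q), hQ, ?_⟩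
    rw [← Points.map_comp, hκc2, Points.map_ofPt, ← Category.assoc, haB2, ofPt_comp_yon_map]
    congr 1
  obtain ⟨s, hs⟩ := exists_finset_closure_fibre_empty R A B Zc hZcl v ht
  have hE : gB =
      (yon S).map (kB R σ (θ R B s)) ≫ (yon S).map (hB R σ (MvPolynomial s R)) ≫ g₀ := by
    rw [hgB, ← Category.assoc, ← Functor.map_comp, kB_hB]
  obtain ⟨T'c, hT'cl, hT'v, hT'W⟩ := key_level R σ A B g₀ a ha hae has gB aB haB1 haB2 s hE W v hs
  refine ⟨s, fun P' q₁ q₂ sq' => ?_⟩
  refine ⟨Points.map sq'.isoPullback.hom ⁻¹' T'c,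
    hT'cl.preimage (Points.continuous_map _), ?_, ?_⟩
  · rintro ⟨c', hc', hc'v⟩
    apply hT'v _ hc'
    rw [← Points.map_comp, sq'.isoPullback_hom_snd]
    exact hc'v
  · intro PV r₁ r₂ sqV κ₁ κ₂ h1 h2 h3 h4 w hw
    have sqV' : IsPullback r₁ r₂ f gB := heg' ▸ sqV
    let j : PV ≅ pullback f gB := sqV'.isoPullback
    have hjκ : j.hom ≫ κc = κ₁ := by
      apply hP.hom_ext
      · rw [Category.assoc, hκc1, sqV'.isoPullback_hom_fst, h1]
      · rw [Category.assoc, hκc2, ← Category.assoc, sqV'.isoPullback_hom_snd, h2]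
    have hwW : Points.map j.hom w ∈ W := by
      change Points.map κc (Points.map j.hom w) ∈ T
      rw [← Points.map_comp, hjκ]
      exact hw
    have hm := hT'W (j.inv ≫ κ₂ ≫ sq'.isoPullback.hom) (by
      rw [Category.assoc, Category.assoc, sq'.isoPullback_hom_fst, h3, sqV'.isoPullback_inv_fst])
      (by
        rw [Category.assoc, Category.assoc, sq'.isoPullback_hom_snd, h4, ← Category.assoc,
          sqV'.isoPullback_inv_snd]) _ hwW
    change Points.map sq'.isoPullback.hom (Points.map κ₂ w) ∈ T'c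
    rw [← Points.map_comp, Iso.hom_inv_id_assoc] at hm
    rw [← Points.map_comp]
    exact hm

end core

end Groth.Agent.Helper19.UCSp
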