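import Groth.Agent.Lib.Helper19.UCSp.Sep72
import Groth.Agent.Lib.Helper15.AlgSpBasic
import Groth.Agent.Lib.Helper15.AlgSpLocP

/-!
# Separating a point from a closed subset of a base change: assembly (helper19)
-/

set_option autoImplicit false
set_option linter.style.haveILetI false
universe u
open CategoryTheory CategoryTheory.Limits AlgebraicGeometry MorphismProperty TopologicalSpace
open AlgSp Groth.Agent.Helper15 Groth.Agent.Helper16.AS TensorProduct

namespace Groth.Agent.Helper19.UCSp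

open Groth.Agent.Helper4.UCAff

variable {S : Scheme.{u}}

/-- an affine open neighbourhood of a point of a scheme over `S`, in `TB` form -/
theorem exists_affine_nbhd_over (V : Over S) (v₀ : V.left) :
    ∃ (B : Type u) (_ : CommRing B) (τ : Spec (CommRingCat.of B) ⟶ S)
      (ε : Over.mk τ ⟶ V) (v : Spec (CommRingCat.of B)),
      IsOpenImmersion ε.left ∧ ε.left v = v₀ := by
  obtain ⟨_, ⟨O, hO, rfl⟩, hvO, -⟩ :=
    (V.left.isBasis_affineOpens).exists_subset_of_mem_open (Set.mem_univ v₀) isOpen_univ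
  let O' : V.left.Opens := O
  have hO' : IsAffineOpen O' := hO
  have hv' : v₀ ∈ Set.range hO'.fromSpec := by
    rw [hO'.range_fromSpec]; exact hvO
  obtain ⟨v, hv⟩ := hv'
  exact ⟨Γ(V.left, O'), inferInstance, hO'.fromSpec ≫ V.hom, Over.homMk hO'.fromSpec rfl, v,
    inferInstanceAs (IsOpenImmersion hO'.fromSpec), hv⟩

set_option maxHeartbeats 1600000 in
/-- **Separation at a finitely presented level.** -/
theorem sep72 {X Y Z : Sp S} (hX : IsAlgSpace X) (hY : IsAlgSpace Y) (hZ : IsAlgSpace Z)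
    (f : X ⟶ Y) (g : Z ⟶ Y) (hf : IsQuasiCompactMor f)
    (P : Sp S) (p₁ : P ⟶ X) (p₂ : P ⟶ Z) (hP : IsPullback p₁ p₂ f g)
    (z : Points Z) (T : Set (Points P)) (hT : IsClosed T) (hz : z ∉ Points.map p₂ '' T) :
    ∃ (V : Over S) (_ : IsAffine V.left) (e : (yon S).obj V ⟶ Z) (_ : RepWith @Etale e) (v : ↥V.left)
      (_ : Points.map e (Points.schemeEquiv V v) = z)
      (Z' : Over S) (_ : IsAffine Z'.left) (b : (yon S).obj Z' ⟶ Y)
      (_ : LocP @LocallyOfFinitePresentation b)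
      (a : V ⟶ Z') (_ : (yon S).map a ≫ b = e ≫ g),
      ∀ (P' : Sp S) (q₁ : P' ⟶ X) (q₂ : P' ⟶ (yon S).obj Z'), IsPullback q₁ q₂ f b →
        ∃ T' : Set (Points P'), IsClosed T' ∧
          Points.schemeEquiv Z' (a.left v) ∉ Points.map q₂ '' T' ∧
          ∀ (PV : Sp S) (r₁ : PV ⟶ X) (r₂ : PV ⟶ (yon S).obj V), IsPullback r₁ r₂ f (e ≫ g) →
            ∀ (κ₁ : PV ⟶ P) (κ₂ : PV ⟶ P'), κ₁ ≫ p₁ = r₁ → κ₁ ≫ p₂ = r₂ ≫ e → κ₂ ≫ q₁ = r₁ →
              κ₂ ≫ q₂ = r₂ ≫ (yon S).map a →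
              ∀ w : Points PV, Points.map κ₁ w ∈ T → Points.map κ₂ w ∈ T' := by
  -- an affine étale chart of `Y` through the image of `z`
  obtain ⟨W₀, gW₀, hgWe, hgWs⟩ := hY.atlas
  obtain ⟨w₀, hw₀⟩ := surjective_ofPt gW₀ hgWs (Points.map g z)
  obtain ⟨R, _, σ, εR, w₁, hεR, hw₁⟩ := exists_affine_nbhd_over W₀ w₀
  let g₀ : (yon S).obj (Over.mk σ) ⟶ Y := (yon S).map εR ≫ gW₀
  have hg₀e : RepWith @Etale g₀ :=
    (RepWith @Etale).comp_mem _ _ ((repWith_yon_map_iff _ εR).2 (by haveI := hεR; infer_instance)) hgWe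
  -- an affine étale neighbourhood of `z` in `Z ×_Y Spec R`
  have pbZ : IsPullback (pullback.fst g g₀) (pullback.snd g g₀) g g₀ := IsPullback.of_hasPullback _ _
  have hZW : IsAlgSpace (pullback g g₀) :=
    isAlgSpace_of_isPullback hY.diag hZ (IsAlgSpace.yon_obj _) pbZ
  have hcompat : Points.map g z = Points.map g₀ (Points.ofScheme (Over.mk σ) w₁) := by
    rw [← Points.ofPt_eq_map_ofScheme, ofPt_comp_yon_map, hw₁, hw₀]
  obtain ⟨zW, hzW1, hzW2⟩ := exists_point_of_isPullback pbZ z _ hcompat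
  obtain ⟨V₀, c, hce, hcs⟩ := hZW.atlas
  obtain ⟨v₀, hv₀⟩ := surjective_ofPt c hcs zW
  obtain ⟨B, _, τ, εB, v, hεB, hv⟩ := exists_affine_nbhd_over V₀ v₀
  obtain ⟨m₀, hm₀⟩ := (yon S).map_surjective (c ≫ pullback.snd g g₀)
  let φB : CommRingCat.of R ⟶ CommRingCat.of B := Spec.preimage (εB.left ≫ m₀.left)
  letI : Algebra R B := φB.hom.toAlgebra
  have hφB : Spec.map (CommRingCat.ofHom (algebraMap R B)) = εB.left ≫ m₀.left :=
    Spec.map_preimage _
  have hτ : (Spec.map (CommRingCat.ofHom (algebraMap R B)) ≫ σ) = εB.left ≫ V₀.hom := by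
    have h1 : m₀.left ≫ σ = V₀.hom := Over.w m₀
    rw [hφB, Category.assoc, h1]
  let εB' : TB R σ B ⟶ V₀ := Over.homMk εB.left hτ.symm
  have hεB' : IsOpenImmersion εB'.left := hεB
  have hvB' : εB'.left v = v₀ := hv
  have hεm : εB' ≫ m₀ = hB R σ B := by
    apply Over.OverMorphism.ext
    exact hφB.symm
  let e : (yon S).obj (TB R σ B) ⟶ Z := (yon S).map εB' ≫ c ≫ pullback.fst g g₀
  have hee : RepWith @Etale e := by
    refine (RepWith @Etale).comp_mem _ _
      ((repWith_yon_map_iff _ εB').2 (by haveI := hεB'; infer_instance)) ?_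
    exact (RepWith @Etale).comp_mem _ _ hce ((RepWith @Etale).of_isPullback pbZ.flip hg₀e)
  have heg : e ≫ g = (yon S).map (hB R σ B) ≫ g₀ := by
    calc e ≫ g = (yon S).map εB' ≫ c ≫ pullback.fst g g₀ ≫ g := by
          simp only [e, Category.assoc]
      _ = (yon S).map εB' ≫ (c ≫ pullback.snd g g₀) ≫ g₀ := by
          rw [pullback.condition, Category.assoc]
      _ = (yon S).map (εB' ≫ m₀) ≫ g₀ := by rw [← hm₀, Functor.map_comp, Category.assoc]
      _ = (yon S).map (hB R σ B) ≫ g₀ := by rw [hεm]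
  have hev : Points.ofPt e v = z := by
    change Points.ofPt ((yon S).map εB' ≫ c ≫ pullback.fst g g₀) v = z
    rw [ofPt_comp_yon_map, hvB', ← Points.map_ofPt, hv₀, hzW1]
  -- an affine étale chart of `X ×_Y Spec R`
  have hc : CompactSpace (Over.mk σ).left :=
    inferInstanceAs (CompactSpace (Spec (CommRingCat.of R)))
  have hPqc : IsQuasiCompactSp (pullback f g₀) :=
    hf (IsAlgSpace.yon_obj _) ((isQuasiCompactSp_yon_iff _).2 hc) g₀ _ _
      (IsPullback.of_hasPullback f g₀)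
  obtain ⟨U, a₀, hUaff, hae, has⟩ := exists_affine_chart_of_isQuasiCompactSp hPqc
  haveI := hUaff
  obtain ⟨u₀, hu₀⟩ := (yon S).map_surjective (a₀ ≫ pullback.snd f g₀)
  let φ : CommRingCat.of R ⟶ Γ(U.left, ⊤) := Spec.preimage (U.left.isoSpec.inv ≫ u₀.left)
  letI : Algebra R Γ(U.left, ⊤) := φ.hom.toAlgebra
  have hφ : Spec.map (CommRingCat.ofHom (algebraMap R Γ(U.left, ⊤))) =
      U.left.isoSpec.inv ≫ u₀.left := Spec.map_preimage _
  let ε : TB R σ Γ(U.left, ⊤) ⟶ U := Over.homMk U.left.isoSpec.inv (by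
    have h1 : u₀.left ≫ σ = U.hom := Over.w u₀
    change _ ≫ U.hom = Spec.map _ ≫ σ
    rw [hφ, ← h1, Category.assoc])
  have hεu : ε ≫ u₀ = hB R σ Γ(U.left, ⊤) := by
    apply Over.OverMorphism.ext
    exact hφ.symm
  have hεe : RepWith @Etale ((yon S).map ε) :=
    (repWith_yon_map_iff _ ε).2 (inferInstanceAs (Etale U.left.isoSpec.inv))
  have hεs : RepWith @Surjective ((yon S).map ε) :=
    (repWith_yon_map_iff _ ε).2 (inferInstanceAs (Surjective U.left.isoSpec.inv))
  have ha : ((yon S).map ε ≫ a₀) ≫ pullback.snd f g₀ = (yon S).map (hB R σ Γ(U.left, ⊤)) := by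
    rw [Category.assoc, ← hu₀, ← Functor.map_comp, hεu]
  have hv' : Points.ofPt e v ∉ Points.map p₂ '' T := by rw [hev]; exact hz
  obtain ⟨s, hs⟩ := sep72_core R σ Γ(U.left, ⊤) B g₀ ((yon S).map ε ≫ a₀) ha
    ((RepWith @Etale).comp_mem _ _ hεe hae) ((RepWith @Surjective).comp_mem _ _ hεs has)
    g e heg P p₁ p₂ hP T hT v hv'
  have hbfp : LocP @LocallyOfFinitePresentation
      ((yon S).map (hB R σ (MvPolynomial s R)) ≫ g₀) := by
    apply locP_of_repWith etale_le_lfp
    refine (RepWith @LocallyOfFinitePresentation).comp_mem _ _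
      ((repWith_yon_map_iff _ _).2 ?_) (repWith_mono etale_le_lfp hg₀e)
    change LocallyOfFinitePresentation
      (Spec.map (CommRingCat.ofHom (algebraMap R (MvPolynomial s R))))
    rw [HasRingHomProperty.Spec_iff (P := @LocallyOfFinitePresentation)]
    change (algebraMap R (MvPolynomial s R)).FinitePresentation
    rw [RingHom.finitePresentation_algebraMap]
    infer_instance
  refine ⟨TB R σ B, inferInstanceAs (IsAffine (Spec (CommRingCat.of B))), e, hee, v, hev,
    TB R σ (MvPolynomial s R),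
    inferInstanceAs (IsAffine (Spec (CommRingCat.of (MvPolynomial s R)))),
    (yon S).map (hB R σ (MvPolynomial s R)) ≫ g₀, hbfp, kB R σ (θ R B s), ?_, hs⟩
  rw [heg, ← Category.assoc, ← Functor.map_comp, kB_hB]

end Groth.Agent.Helper19.UCSp
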